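/-
S0518 (K-S Theorem 12.1.1): ZN-groups of local characteristic 2.
`S0518 = S2947 + S2954 + the descent to H = O²(G)`.  Definitions and the exact statements of the
packages (paper proofs: team notes of helper81, topic S0518).

Conventions: everything is elementwise; `cj g K = g K g⁻¹` is helper71's; `G` is arbitrary unless
`[Finite G]` is written.  `Odd2 G` is the subgroup generated by the elements of odd order (`O²(G)`).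
-/
import Mathlib
import Cfsg.Prelude.Def_CaseTheorems
import Cfsg.Prelude.Def_JComponents
import Cfsg.Agent.Lib.Helper71.Sym.Defs

set_option autoImplicit false

namespace Cfsg.Agent.Lib.Helper81.ZN

open Cfsg Cfsg.Agent.Lib.Helper71.Sym

universe u

/-! ### The model groups -/

/-- `Γ = S₄ × C₂` (the order of the factors is that of the frozen S2954). -/
abbrev Gam : Type := Equiv.Perm (Fin 4) × Multiplicative (ZMod 2)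

/-- membership in the Klein four-group of `S₄`. -/
def IsV4 (σ : Equiv.Perm (Fin 4)) : Prop := σ * σ = 1 ∧ (σ = 1 ∨ ∀ i : Fin 4, σ i ≠ i)

instance : DecidablePred IsV4 := fun σ => by unfold IsV4; infer_instance

set_option maxRecDepth 100000 in
theorem isV4_mul : ∀ a b : Equiv.Perm (Fin 4), IsV4 a → IsV4 b → IsV4 (a * b) := by decide +kernel

set_option maxRecDepth 100000 in
theorem isV4_inv : ∀ a : Equiv.Perm (Fin 4), IsV4 a → IsV4 a⁻¹ := by decide +kernel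

theorem isV4_one : IsV4 1 := by decide

/-- the Klein four-group `V₄ ⊴ S₄`. -/
def V4 : Subgroup (Equiv.Perm (Fin 4)) where
  carrier := {σ | IsV4 σ}
  mul_mem' := fun {a b} ha hb => isV4_mul a b ha hb
  one_mem' := isV4_one
  inv_mem' := fun {a} ha => isV4_inv a ha

theorem mem_V4 {σ : Equiv.Perm (Fin 4)} : σ ∈ V4 ↔ IsV4 σ := Iff.rfl

/-- `A₄ ≤ S₄`. -/
abbrev A4 : Subgroup (Equiv.Perm (Fin 4)) := alternatingGroup (Fin 4)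

/-- `O₂(Γ) = V₄ × C₂`. -/
def Q₀ : Subgroup Gam := V4.prod ⊤

/-- `V₄ × 1`. -/
def W₀ : Subgroup Gam := V4.prod ⊥

/-- `A₄ × 1 = O²(Γ)`. -/
def A₀ : Subgroup Gam := A4.prod ⊥

/-- the central involution `(1, c)` of `Γ`. -/
def c₀ : Gam := (1, Multiplicative.ofAdd 1)

theorem mem_Q₀ {γ : Gam} : γ ∈ Q₀ ↔ IsV4 γ.1 := by
  unfold Q₀; rw [Subgroup.mem_prod]; simp [mem_V4]

theorem mem_W₀ {γ : Gam} : γ ∈ W₀ ↔ IsV4 γ.1 ∧ γ.2 = 1 := by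
  unfold W₀; rw [Subgroup.mem_prod]; simp [mem_V4]

theorem mem_A₀ {γ : Gam} : γ ∈ A₀ ↔ γ.1 ∈ alternatingGroup (Fin 4) ∧ γ.2 = 1 := by
  unfold A₀; rw [Subgroup.mem_prod]; simp

/-- Pull back a subgroup of the model along an isomorphism `ψ : ↥P ≃* Γ`, as a subgroup of `G`. -/
def pb {G : Type*} [Group G] {P : Subgroup G} {Γ : Type*} [Group Γ] (ψ : ↥P ≃* Γ)
    (X : Subgroup Γ) : Subgroup G :=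
  (X.comap ψ.toMonoidHom).map P.subtype

theorem mem_pb {G : Type*} [Group G] {P : Subgroup G} {Γ : Type*} [Group Γ] (ψ : ↥P ≃* Γ)
    (X : Subgroup Γ) (g : G) : g ∈ pb ψ X ↔ ∃ h : g ∈ P, ψ ⟨g, h⟩ ∈ X := by
  unfold pb
  rw [Subgroup.mem_map]
  constructor
  · rintro ⟨x, hx, rfl⟩
    exact ⟨x.2, hx⟩
  · rintro ⟨h, hx⟩
    exact ⟨⟨g, h⟩, hx, rfl⟩

theorem pb_le {G : Type*} [Group G] {P : Subgroup G} {Γ : Type*} [Group Γ] (ψ : ↥P ≃* Γ)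
    (X : Subgroup Γ) : pb ψ X ≤ P := fun g hg => ((mem_pb ψ X g).mp hg).1

theorem symm_mem_pb {G : Type*} [Group G] {P : Subgroup G} {Γ : Type*} [Group Γ] (ψ : ↥P ≃* Γ)
    (X : Subgroup Γ) (γ : Γ) : ((ψ.symm γ : ↥P) : G) ∈ pb ψ X ↔ γ ∈ X := by
  rw [mem_pb]
  constructor
  · rintro ⟨h, hx⟩
    simpa using hx
  · intro h
    exact ⟨(ψ.symm γ).2, by simpa using h⟩

theorem pb_mono {G : Type*} [Group G] {P : Subgroup G} {Γ : Type*} [Group Γ] (ψ : ↥P ≃* Γ)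
    {X Y : Subgroup Γ} (h : X ≤ Y) : pb ψ X ≤ pb ψ Y := by
  intro g hg
  rw [mem_pb] at hg ⊢
  obtain ⟨h1, h2⟩ := hg
  exact ⟨h1, h h2⟩

theorem card_pb {G : Type*} [Group G] {P : Subgroup G} {Γ : Type*} [Group Γ] (ψ : ↥P ≃* Γ)
    (X : Subgroup Γ) : Nat.card ↥(pb ψ X) = Nat.card ↥X := by
  unfold pb
  rw [Subgroup.card_map_of_injective P.subtype_injective]
  have h : X.comap ψ.toMonoidHom = X.map ψ.symm.toMonoidHom := by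
    ext x
    rw [Subgroup.mem_comap, Subgroup.mem_map]
    constructor
    · intro hx
      exact ⟨ψ x, hx, by simp⟩
    · rintro ⟨y, hy, rfl⟩
      simpa using hy
  rw [h, Subgroup.card_map_of_injective ψ.symm.injective]

/-- `O²(G)`: the subgroup generated by the elements of odd order. -/
def Odd2 (G : Type*) [Group G] : Subgroup G := Subgroup.closure {g : G | Odd (orderOf g)}

/-- `P` is the normalizer of each nontrivial 2-subgroup that it normalizes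
(consequence of `IsMaximalTwoLocal P`). -/
def MaxN {G : Type*} [Group G] (P : Subgroup G) : Prop :=
  ∀ X : Subgroup G, IsPGroup 2 ↥X → X ≠ ⊥ → P ≤ Subgroup.normalizer (X : Set G) →
    Subgroup.normalizer (X : Set G) = P

/-! ### Case `S₄` -/

/-- local data of a maximal 2-local `P ≅ S₄` with Sylow 2-subgroup `T`: `V = O₂(P)`, `A = O²(P)`. -/
structure Side1 {G : Type*} [Group G] (P T V A : Subgroup G) : Prop where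
  fin : Finite ↥P
  hTP : T ≤ P
  hVT : V ≤ T
  hVA : V ≤ A
  hAP : A ≤ P
  cardP : Nat.card ↥P = 24
  cardT : Nat.card ↥T = 8
  cardV : Nat.card ↥V = 4
  cardA : Nat.card ↥A = 12
  nV : ∀ h ∈ P, ∀ v ∈ V, h * v * h⁻¹ ∈ V
  oddA : A ≤ Odd2 G

/-! ### Case `S₄ × C₂`: one side.  `P ≅ Γ`, `T` a Sylow 2-subgroup of `P`, `Q = O₂(P) ≅ 2³`,
`W ≅ V₄` (the non-central chief factor), `A = O²(P) ≅ A₄`, `Z(P) = ⟨c⟩`. -/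

/-- shape: containments and orders. -/
structure SideA {G : Type*} [Group G] (P T Q W A : Subgroup G) : Prop where
  fin : Finite ↥P
  hTP : T ≤ P
  hT2 : IsPGroup 2 ↥T
  hQT : Q ≤ T
  hWQ : W ≤ Q
  hWA : W ≤ A
  hAP : A ≤ P
  cardP : Nat.card ↥P = 48
  cardT : Nat.card ↥T = 16
  cardQ : Nat.card ↥Q = 8
  cardW : Nat.card ↥W = 4
  cardA : Nat.card ↥A = 12

/-- normality, `Q` elementary abelian, the central involution. -/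
structure SideN {G : Type*} [Group G] (P Q W A : Subgroup G) (c : G) : Prop where
  nQ : ∀ h ∈ P, ∀ q ∈ Q, h * q * h⁻¹ ∈ Q
  nW : ∀ h ∈ P, ∀ w ∈ W, h * w * h⁻¹ ∈ W
  nA : ∀ h ∈ P, ∀ a ∈ A, h * a * h⁻¹ ∈ A
  sqQ : ∀ q ∈ Q, q * q = 1
  hc : c ∈ Q
  hc1 : c ≠ 1
  hcW : c ∉ W
  hcP : ∀ h ∈ P, h * c = c * h

/-- centre and centralizers. -/
structure SideZ {G : Type*} [Group G] (P Q W : Subgroup G) (c : G) : Prop where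
  centP : ∀ z ∈ P, (∀ h ∈ P, h * z = z * h) → z = 1 ∨ z = c
  cQ : ∀ g ∈ P, (∀ q ∈ Q, g * q = q * g) → g ∈ Q
  cW : ∀ g ∈ P, (∀ w ∈ W, g * w = w * g) → g ∈ Q

/-- facts on `A = O²(P)`. -/
structure SideT {G : Type*} [Group G] (P W A : Subgroup G) : Prop where
  trW : ∀ w ∈ W, w ≠ 1 → ∀ w' ∈ W, w' ≠ 1 → ∃ a ∈ A, a * w * a⁻¹ = w'
  oddA : A ≤ Odd2 G
  AT : ∀ x ∈ A, x ^ 16 = 1 → x ∈ W
  comm : ∀ g ∈ P, ∀ h ∈ P, g * h * g⁻¹ * h⁻¹ ∈ A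

/-- 2-elements outside `Q` move `A` by an element of order 3; involutions other than `c` lie in
an elementary abelian subgroup of order 8. -/
structure SideO {G : Type*} [Group G] (P Q A : Subgroup G) (c : G) : Prop where
  out : ∀ g ∈ P, g ∉ Q → g ^ 16 = 1 →
    ∃ a ∈ A, (g * a * g⁻¹ * a⁻¹) ^ 3 = 1 ∧ g * a * g⁻¹ * a⁻¹ ≠ 1
  third : ∀ ε ∈ P, ε * ε = 1 → ε ≠ 1 → ε ≠ c →
    ∃ δ ∈ P, δ * δ = 1 ∧ δ * ε = ε * δ ∧ δ ≠ 1 ∧ δ ≠ ε ∧ δ ≠ c ∧ δ ≠ ε * c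

/-- the `A`-invariant subgroups of `Q`. -/
structure SideI {G : Type*} [Group G] (Q W A : Subgroup G) (c : G) : Prop where
  inv : ∀ Y : Subgroup G, Y ≤ Q → (∀ a ∈ A, ∀ y ∈ Y, a * y * a⁻¹ ∈ Y) →
    Y = ⊥ ∨ W ≤ Y ∨ Y = Subgroup.zpowers c

/-- complements of `⟨c⟩` are `S₄`. -/
structure SideM {G : Type*} [Group G] (P : Subgroup G) (c : G) : Prop where
  isoM : ∀ M : Subgroup G, M ≤ P → Nat.card ↥M = 24 → c ∉ M →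
    Nonempty (↥M ≃* Equiv.Perm (Fin 4))

/-- all local facts of one side. -/
structure Side {G : Type*} [Group G] (P T Q W A : Subgroup G) (c : G) : Prop where
  a : SideA P T Q W A
  n : SideN P Q W A c
  z : SideZ P Q W c
  t : SideT P W A
  o : SideO P Q A c
  i : SideI Q W A c
  m : SideM P c

/-! ### Case `S₄ × C₂`: the pair -/

/-- The two sides, before the derived facts. -/
structure Ctx0 {G : Type*} [Group G] (P₁ P₂ T Q₁ Q₂ W₁ W₂ A₁ A₂ : Subgroup G) (c₁ c₂ : G) :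
    Prop where
  s₁ : Side P₁ T Q₁ W₁ A₁ c₁
  s₂ : Side P₂ T Q₂ W₂ A₂ c₂
  hne : P₁ ≠ P₂
  max₁ : MaxN P₁
  max₂ : MaxN P₂

theorem Ctx0.symm {G : Type*} [Group G] {P₁ P₂ T Q₁ Q₂ W₁ W₂ A₁ A₂ : Subgroup G} {c₁ c₂ : G}
    (h : Ctx0 P₁ P₂ T Q₁ Q₂ W₁ W₂ A₁ A₂ c₁ c₂) : Ctx0 P₂ P₁ T Q₂ Q₁ W₂ W₁ A₂ A₁ c₂ c₁ :=
  ⟨h.s₂, h.s₁, h.hne.symm, h.max₂, h.max₁⟩

/-- Derived facts (A1): `P₁ ⊓ P₂ = T = Q₁Q₂`, `D = Q₁ ⊓ Q₂ = Z(T) = {1, c₁, c₂, c₁c₂}`,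
`C_G(D) = T`. -/
structure CfgA1 {G : Type*} [Group G] (P₁ P₂ T Q₁ Q₂ : Subgroup G) (c₁ c₂ : G) : Prop where
  hPP : P₁ ⊓ P₂ = T
  hQ : Q₁ ≠ Q₂
  hc : c₁ ≠ c₂
  hCD : ∀ g : G, g * c₁ = c₁ * g → g * c₂ = c₂ * g → g ∈ T
  hprod : ∀ t ∈ T, ∃ a ∈ Q₁, ∃ b ∈ Q₂, t = a * b
  hZT : ∀ x ∈ T, (∀ t ∈ T, t * x = x * t) ↔ x ∈ Q₁ ⊓ Q₂
  hD : ∀ x : G, x ∈ Q₁ ⊓ Q₂ ↔ x = 1 ∨ x = c₁ ∨ x = c₂ ∨ x = c₁ * c₂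

/-- Derived facts (A2): the involutions of `T` lie in `Q₁ ∪ Q₂`; `Q₁`, `Q₂` are the only
elementary abelian subgroups of order 8 of `T`. -/
structure CfgA2 {G : Type*} [Group G] (T Q₁ Q₂ : Subgroup G) : Prop where
  hcomm : ∀ q₁ ∈ Q₁, ∀ q₂ ∈ Q₂, q₁ * q₂ = q₂ * q₁ → q₁ ∈ Q₂ ∨ q₂ ∈ Q₁
  nonsq : ∀ t ∈ T, t * t = 1 → t ∈ Q₁ ∨ t ∈ Q₂
  elab8 : ∀ E : Subgroup G, E ≤ T → (∀ x ∈ E, x * x = 1) → Nat.card ↥E = 8 → E = Q₁ ∨ E = Q₂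

/-- Derived facts (B1): `W₁ ⊓ W₂ = ⟨c₁c₂⟩`, `U = W₁ ⊔ W₂ = W₁W₂`, `Q_i ⊓ U = W_i`. -/
structure CfgB1 {G : Type*} [Group G] (T Q₁ Q₂ W₁ W₂ : Subgroup G) (c₁ c₂ : G) : Prop where
  hWW : ∀ x : G, x ∈ W₁ ⊓ W₂ ↔ x = 1 ∨ x = c₁ * c₂
  hUmem : ∀ x ∈ W₁ ⊔ W₂, ∃ w₁ ∈ W₁, ∃ w₂ ∈ W₂, x = w₁ * w₂
  hUT : W₁ ⊔ W₂ ≤ T
  hcU : c₁ ∉ W₁ ⊔ W₂
  hcU' : c₂ ∉ W₁ ⊔ W₂
  hUQ₁ : Q₁ ⊓ (W₁ ⊔ W₂) = W₁
  hUQ₂ : Q₂ ⊓ (W₁ ⊔ W₂) = W₂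

/-- Derived facts (B2): `U ≅ D₈` has order 8, `T = U × ⟨c₁⟩`. -/
structure CfgB2 {G : Type*} [Group G] (T W₁ W₂ : Subgroup G) (c₁ c₂ : G) : Prop where
  cardU : Nat.card ↥(W₁ ⊔ W₂) = 8
  hww : ∀ w₁ ∈ W₁, w₁ ∉ W₂ → ∀ w₂ ∈ W₂, w₂ ∉ W₁ → w₂ * w₁ * w₂⁻¹ = w₁ * (c₁ * c₂)
  hTU : ∀ t ∈ T, t ∈ W₁ ⊔ W₂ ∨ c₁ * t ∈ W₁ ⊔ W₂

/-- The full context of the case `S₄ × C₂`. -/
structure Ctx {G : Type*} [Group G] (P₁ P₂ T Q₁ Q₂ W₁ W₂ A₁ A₂ : Subgroup G) (c₁ c₂ : G) :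
    Prop where
  o : Ctx0 P₁ P₂ T Q₁ Q₂ W₁ W₂ A₁ A₂ c₁ c₂
  a1 : CfgA1 P₁ P₂ T Q₁ Q₂ c₁ c₂
  a2 : CfgA2 T Q₁ Q₂
  b1 : CfgB1 T Q₁ Q₂ W₁ W₂ c₁ c₂
  b2 : CfgB2 T W₁ W₂ c₁ c₂

/-- What an element `y` normalizing `T` from outside does: it swaps the two sides. -/
structure Swap {G : Type*} [Group G] (Q₁ Q₂ W₁ W₂ : Subgroup G) (c₁ c₂ y : G) : Prop where
  hQ₁ : cj y Q₁ = Q₂
  hQ₂ : cj y Q₂ = Q₁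
  hc₁ : y * c₁ * y⁻¹ = c₂
  hc₂ : y * c₂ * y⁻¹ = c₁
  hW₁ : cj y W₁ = W₂
  hW₂ : cj y W₂ = W₁

/-- a swapping element centralizes no involution of `T` other than `c₁c₂`. -/
def FO {G : Type*} [Group G] (T Q₁ Q₂ W₁ W₂ : Subgroup G) (c₁ c₂ : G) : Prop :=
  ∀ y : G, Swap Q₁ Q₂ W₁ W₂ c₁ c₂ y → ∀ f ∈ T, f * f = 1 → y * f = f * y → f = 1 ∨ f = c₁ * c₂

/-- every element of `S` outside `T` swaps. -/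
def SwapOn {G : Type*} [Group G] (S T Q₁ Q₂ W₁ W₂ : Subgroup G) (c₁ c₂ : G) : Prop :=
  ∀ y ∈ S, y ∉ T → Swap Q₁ Q₂ W₁ W₂ c₁ c₂ y

/-! ## The packages -/

/-! ### generic -/

/-- (DM) descent of maximal 2-locals to a subgroup `H`. -/
def PkgDM : Prop := ∀ {G : Type u} [Group G] (H M W : Subgroup G), M ≤ H → W ≤ H →
  IsPGroup 2 ↥W → W ≠ ⊥ → Subgroup.normalizer (W : Set G) ⊓ H = M →
  (∀ X : Subgroup G, X ≤ H → IsPGroup 2 ↥X → X ≠ ⊥ → M ≤ Subgroup.normalizer (X : Set G) →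
    Subgroup.normalizer (X : Set G) ⊓ H ≤ M) →
  IsMaximalTwoLocal (M.subgroupOf H)

/-- (NG) normalizers grow in finite 2-groups. -/
def PkgNG : Prop := ∀ {G : Type u} [Group G] (S R : Subgroup G), IsPGroup 2 ↥S → Finite ↥S →
  R ≤ S → (∀ x ∈ S, cj x R = R → x ∈ R) → R = S

/-- (FP) a finite 2-group acting on a nontrivial finite 2-group has a nontrivial fixed point. -/
def PkgFP : Prop := ∀ {G : Type u} [Group G] (W X : Subgroup G), IsPGroup 2 ↥W → IsPGroup 2 ↥X →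
  Finite ↥W → Finite ↥X → X ≠ ⊥ → (∀ w ∈ W, ∀ x ∈ X, w * x * w⁻¹ ∈ X) →
  ∃ x ∈ X, x ≠ 1 ∧ ∀ w ∈ W, w * x = x * w

/-! ### case `S₄` -/

/-- (S1) the local data of `P ≅ S₄`. -/
def PkgS1 : Prop := ∀ {G : Type u} [Group G] (P T : Subgroup G), IsSylowTwoIn T P →
  Nonempty (↥P ≃* Equiv.Perm (Fin 4)) → ∃ V A : Subgroup G, Side1 P T V A

/-- (C1) the conclusion in the case `S₄`. -/
def PkgC1 : Prop := ∀ {G : Type u} [Group G] (P₁ P₂ T V₁ V₂ A₁ A₂ : Subgroup G),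
  Side1 P₁ T V₁ A₁ → Side1 P₂ T V₂ A₂ → P₁ ≠ P₂ → MaxN P₁ → MaxN P₂ →
  P₁ ≤ Odd2 G ∧ P₂ ≤ Odd2 G ∧ Nat.card ↥(P₁ ⊓ P₂) = 8

/-! ### case `S₄ × C₂`: the local data of `P ≅ Γ` (transport from the model along `ψ`) -/

def PkgSA : Prop := ∀ {G : Type u} [Group G] (P T : Subgroup G) (ψ : ↥P ≃* Gam),
  IsSylowTwoIn T P → SideA P T (pb ψ Q₀) (pb ψ W₀) (pb ψ A₀)

def PkgSN : Prop := ∀ {G : Type u} [Group G] (P : Subgroup G) (ψ : ↥P ≃* Gam),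
  SideN P (pb ψ Q₀) (pb ψ W₀) (pb ψ A₀) ((ψ.symm c₀ : ↥P) : G)

def PkgSZ : Prop := ∀ {G : Type u} [Group G] (P : Subgroup G) (ψ : ↥P ≃* Gam),
  SideZ P (pb ψ Q₀) (pb ψ W₀) ((ψ.symm c₀ : ↥P) : G)

def PkgST : Prop := ∀ {G : Type u} [Group G] (P : Subgroup G) (ψ : ↥P ≃* Gam),
  SideT P (pb ψ W₀) (pb ψ A₀)

def PkgSO : Prop := ∀ {G : Type u} [Group G] (P : Subgroup G) (ψ : ↥P ≃* Gam),
  SideO P (pb ψ Q₀) (pb ψ A₀) ((ψ.symm c₀ : ↥P) : G)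

def PkgSI : Prop := ∀ {G : Type u} [Group G] (P : Subgroup G) (ψ : ↥P ≃* Gam),
  SideI (pb ψ Q₀) (pb ψ W₀) (pb ψ A₀) ((ψ.symm c₀ : ↥P) : G)

def PkgSM : Prop := ∀ {G : Type u} [Group G] (P : Subgroup G) (ψ : ↥P ≃* Gam),
  SideM P ((ψ.symm c₀ : ↥P) : G)

/-! ### case `S₄ × C₂`: the pair -/

def PkgCA1 : Prop := ∀ {G : Type u} [Group G] (P₁ P₂ T Q₁ Q₂ W₁ W₂ A₁ A₂ : Subgroup G)
  (c₁ c₂ : G), Ctx0 P₁ P₂ T Q₁ Q₂ W₁ W₂ A₁ A₂ c₁ c₂ → CfgA1 P₁ P₂ T Q₁ Q₂ c₁ c₂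

def PkgCA2 : Prop := ∀ {G : Type u} [Group G] (P₁ P₂ T Q₁ Q₂ W₁ W₂ A₁ A₂ : Subgroup G)
  (c₁ c₂ : G), Ctx0 P₁ P₂ T Q₁ Q₂ W₁ W₂ A₁ A₂ c₁ c₂ → CfgA1 P₁ P₂ T Q₁ Q₂ c₁ c₂ →
  CfgA2 T Q₁ Q₂

def PkgCB1 : Prop := ∀ {G : Type u} [Group G] (P₁ P₂ T Q₁ Q₂ W₁ W₂ A₁ A₂ : Subgroup G)
  (c₁ c₂ : G), Ctx0 P₁ P₂ T Q₁ Q₂ W₁ W₂ A₁ A₂ c₁ c₂ → CfgA1 P₁ P₂ T Q₁ Q₂ c₁ c₂ →
  CfgA2 T Q₁ Q₂ → CfgB1 T Q₁ Q₂ W₁ W₂ c₁ c₂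

def PkgCB2 : Prop := ∀ {G : Type u} [Group G] (P₁ P₂ T Q₁ Q₂ W₁ W₂ A₁ A₂ : Subgroup G)
  (c₁ c₂ : G), Ctx0 P₁ P₂ T Q₁ Q₂ W₁ W₂ A₁ A₂ c₁ c₂ → CfgA1 P₁ P₂ T Q₁ Q₂ c₁ c₂ →
  CfgA2 T Q₁ Q₂ → CfgB1 T Q₁ Q₂ W₁ W₂ c₁ c₂ → CfgB2 T W₁ W₂ c₁ c₂

/-! ### case `S₄ × C₂`: fusion (`c₁ ∉ O²(G)`) -/

/-- (J1) `c₁` is not conjugate to `c₁c₂`. -/
def PkgJ1 : Prop := ∀ {G : Type u} [Group G] (P₁ P₂ T Q₁ Q₂ W₁ W₂ A₁ A₂ : Subgroup G)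
  (c₁ c₂ : G), Ctx P₁ P₂ T Q₁ Q₂ W₁ W₂ A₁ A₂ c₁ c₂ → ∀ g : G, g * c₁ * g⁻¹ ≠ c₁ * c₂

/-- (JU) no conjugate of `c₁` lies in `U = W₁ ⊔ W₂`. -/
def PkgJU : Prop := ∀ {G : Type u} [Group G] (P₁ P₂ T Q₁ Q₂ W₁ W₂ A₁ A₂ : Subgroup G)
  (c₁ c₂ : G), Ctx P₁ P₂ T Q₁ Q₂ W₁ W₂ A₁ A₂ c₁ c₂ → (∀ g : G, g * c₁ * g⁻¹ ≠ c₁ * c₂) →
  ∀ g : G, g * c₁ * g⁻¹ ∉ W₁ ⊔ W₂

/-- (SW) an element of a 2-group `R ≥ T` normalizing `T` from outside swaps the two sides. -/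
def PkgSW : Prop := ∀ {G : Type u} [Group G] (P₁ P₂ T Q₁ Q₂ W₁ W₂ A₁ A₂ : Subgroup G)
  (c₁ c₂ : G), Ctx P₁ P₂ T Q₁ Q₂ W₁ W₂ A₁ A₂ c₁ c₂ → ∀ R : Subgroup G, IsPGroup 2 ↥R → T ≤ R →
  ∀ y ∈ R, y ∉ T → cj y T = T → Swap Q₁ Q₂ W₁ W₂ c₁ c₂ y

/-- (FO). -/
def PkgFO : Prop := ∀ {G : Type u} [Group G] (P₁ P₂ T Q₁ Q₂ W₁ W₂ A₁ A₂ : Subgroup G)
  (c₁ c₂ : G), Ctx P₁ P₂ T Q₁ Q₂ W₁ W₂ A₁ A₂ c₁ c₂ → FO T Q₁ Q₂ W₁ W₂ c₁ c₂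

/-- (NT) `|N_S(T)| = 32` if `T < S`. -/
def PkgNT : Prop := ∀ {G : Type u} [Group G] (P₁ P₂ T Q₁ Q₂ W₁ W₂ A₁ A₂ : Subgroup G)
  (c₁ c₂ : G), Ctx P₁ P₂ T Q₁ Q₂ W₁ W₂ A₁ A₂ c₁ c₂ → ∀ S : Subgroup G, IsPGroup 2 ↥S →
  Finite ↥S → T ≤ S → T ≠ S →
  (∀ y ∈ S, y ∉ T → cj y T = T → Swap Q₁ Q₂ W₁ W₂ c₁ c₂ y) →
  Nat.card ↥(S ⊓ Subgroup.normalizer (T : Set G)) = 32

/-- (NR) whoever normalizes `R` (of order 32, all of `R ∖ T` swapping) normalizes `T`. -/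
def PkgNR : Prop := ∀ {G : Type u} [Group G] (P₁ P₂ T Q₁ Q₂ W₁ W₂ A₁ A₂ : Subgroup G)
  (c₁ c₂ : G), Ctx P₁ P₂ T Q₁ Q₂ W₁ W₂ A₁ A₂ c₁ c₂ → ∀ R : Subgroup G, T ≤ R →
  Nat.card ↥R = 32 → SwapOn R T Q₁ Q₂ W₁ W₂ c₁ c₂ → FO T Q₁ Q₂ W₁ W₂ c₁ c₂ →
  ∀ x : G, cj x R = R → cj x T = T

/-- (CEN) the involutions commuting with `c₁c₂` lie in `S`. -/
def PkgCEN : Prop := ∀ {G : Type u} [Group G] [Finite G]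
  (P₁ P₂ T Q₁ Q₂ W₁ W₂ A₁ A₂ : Subgroup G) (c₁ c₂ : G),
  Ctx P₁ P₂ T Q₁ Q₂ W₁ W₂ A₁ A₂ c₁ c₂ → ∀ S : Sylow 2 G, T ≤ (S : Subgroup G) →
  (∃ y ∈ (S : Subgroup G), y ∉ T) → SwapOn (S : Subgroup G) T Q₁ Q₂ W₁ W₂ c₁ c₂ →
  FO T Q₁ Q₂ W₁ W₂ c₁ c₂ →
  Subgroup.centralizer {z : G | z ∈ (S : Subgroup G) ∧ z ^ 2 = 1 ∧
      ∀ s ∈ (S : Subgroup G), s * z = z * s} ≤ Subgroup.normalizer ((S : Subgroup G) : Set G) →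
  ∀ δ : G, δ * δ = 1 → δ * (c₁ * c₂) = (c₁ * c₂) * δ → δ ∈ (S : Subgroup G)

/-- (NC) the conjugates of `c₁` in `S` lie in `T`. -/
def PkgNC : Prop := ∀ {G : Type u} [Group G] (P₁ P₂ T Q₁ Q₂ W₁ W₂ A₁ A₂ : Subgroup G)
  (c₁ c₂ : G), Ctx P₁ P₂ T Q₁ Q₂ W₁ W₂ A₁ A₂ c₁ c₂ → ∀ S : Subgroup G, T ≤ S →
  Nat.card ↥S = 32 → SwapOn S T Q₁ Q₂ W₁ W₂ c₁ c₂ → FO T Q₁ Q₂ W₁ W₂ c₁ c₂ →
  (∀ δ : G, δ * δ = 1 → δ * (c₁ * c₂) = (c₁ * c₂) * δ → δ ∈ S) →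
  ∀ g : G, g * c₁ * g⁻¹ ∈ S → g * c₁ * g⁻¹ ∈ T

/-- (SQ) the square of a swapping element lies in `U`. -/
def PkgSQ : Prop := ∀ {G : Type u} [Group G] (P₁ P₂ T Q₁ Q₂ W₁ W₂ A₁ A₂ : Subgroup G)
  (c₁ c₂ : G), Ctx P₁ P₂ T Q₁ Q₂ W₁ W₂ A₁ A₂ c₁ c₂ → ∀ y : G, Swap Q₁ Q₂ W₁ W₂ c₁ c₂ y →
  y * y ∈ T → y * y ∈ W₁ ⊔ W₂

/-- (S0) a subgroup of index 2 of `S` meeting `T` in `U`. -/
def PkgS0 : Prop := ∀ {G : Type u} [Group G] (P₁ P₂ T Q₁ Q₂ W₁ W₂ A₁ A₂ : Subgroup G)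
  (c₁ c₂ : G), Ctx P₁ P₂ T Q₁ Q₂ W₁ W₂ A₁ A₂ c₁ c₂ → ∀ S : Subgroup G, T ≤ S →
  Nat.card ↥S = 32 → SwapOn S T Q₁ Q₂ W₁ W₂ c₁ c₂ →
  (∀ y ∈ S, y ∉ T → y * y ∈ W₁ ⊔ W₂) →
  ∃ S₀ : Subgroup G, S₀ ≤ S ∧ S₀.relIndex S = 2 ∧ S₀ ⊓ T ≤ W₁ ⊔ W₂

/-! ### case `S₄ × C₂`: the descent -/

/-- (FA) `P₁ ∩ O²(G)` has order 24 and `T ∩ O²(G) = U`. -/
def PkgFA : Prop := ∀ {G : Type u} [Group G] (P₁ P₂ T Q₁ Q₂ W₁ W₂ A₁ A₂ : Subgroup G)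
  (c₁ c₂ : G), Ctx P₁ P₂ T Q₁ Q₂ W₁ W₂ A₁ A₂ c₁ c₂ → c₁ ∉ Odd2 G →
  Nat.card ↥(P₁ ⊓ Odd2 G) = 24 ∧ T ⊓ Odd2 G = W₁ ⊔ W₂

/-- (FB) the only nontrivial 2-subgroup of `O²(G)` normalized by `P₁ ∩ O²(G)` is `W₁`. -/
def PkgFB : Prop := ∀ {G : Type u} [Group G] [Finite G]
  (P₁ P₂ T Q₁ Q₂ W₁ W₂ A₁ A₂ : Subgroup G) (c₁ c₂ : G),
  Ctx P₁ P₂ T Q₁ Q₂ W₁ W₂ A₁ A₂ c₁ c₂ → c₁ ∉ Odd2 G → T ⊓ Odd2 G = W₁ ⊔ W₂ →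
  ∀ X : Subgroup G, X ≤ Odd2 G → IsPGroup 2 ↥X → X ≠ ⊥ →
  P₁ ⊓ Odd2 G ≤ Subgroup.normalizer (X : Set G) → X = W₁

end Cfsg.Agent.Lib.Helper81.ZN
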